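import Groth.Agent.Lib.Kleiman27.Orbit
import Groth.Agent.Lib.Induce27.Solv
import Groth.Agent.Lib.Induce27.QuotAffine
import Groth.Agent.Lib.FlatFactor.Orbit
import Groth.Agent.Lib.GrpdQuot.FlatQuot
import Groth.Agent.Lib.Rigidity.SmoothGroup
import Groth.Agent.S15608
import Groth.Agent.S12540
import Groth.Agent.S14586

/-!
# The fixed point theorem of Borel
-/

set_option autoImplicit false

universe u

open CategoryTheory CategoryTheory.Limits MonoidalCategory CartesianMonoidalCategory MonObj GrpObj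
open AlgebraicGeometry

namespace GrothLib.BorelFix27

variable {k : Type u} [Field k] [IsAlgClosed k]

/-- Over an algebraically closed field, integral elements of domains are constants. -/
theorem eq_algebraMap_of_isIntegral {R : Type*} [CommRing R] [IsDomain R] [Algebra k R] {f : R}
    (hf : IsIntegral k f) : ∃ c : k, algebraMap k R c = f := by
  obtain ⟨c, hc⟩ := minpoly.mem_range_of_degree_eq_one k f
    (IsAlgClosed.degree_eq_one_of_irreducible k (minpoly.irreducible hf))
  exact ⟨c, hc⟩

variable {G X : Over (Spec (CommRingCat.of k))} [GrpObj G] [IsAffine G.left] [Smooth G.hom]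
  [ConnectedSpace G.left] [Group.IsSolvable (𝟙_ (Over (Spec (CommRingCat.of k))) ⟶ G)]
  [IsProper X.hom]

omit [GrpObj G] [IsAffine G.left] [Smooth G.hom] [ConnectedSpace G.left]
  [Group.IsSolvable (𝟙_ (Over (Spec (CommRingCat.of k))) ⟶ G)] [IsProper X.hom] [IsAlgClosed k] in
/-- A map from a reduced scheme landing in the point of a section is constant. -/
theorem eq_const_of_range {Y : Over (Spec (CommRingCat.of k))} [IsReduced Y.left] (f : Y ⟶ X)
    (x : 𝟙_ (Over (Spec (CommRingCat.of k))) ⟶ X) [IsPreimmersion x.left]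
    (h : ∀ y, f.left y ∈ Set.range x.left.base) : f = toUnit Y ≫ x := by
  obtain ⟨l, hl⟩ := GrothLib.AlgSp.exists_lift_of_range_subset f.left x.left (by rintro _ ⟨y, rfl⟩; exact h y)
  have hx : x.left ≫ X.hom = 𝟙 _ := Over.w x
  have e : l = (toUnit Y).left := by
    have h1 : (toUnit Y).left = Y.hom := by
      have := Over.w (toUnit Y)
      simpa using this
    rw [h1, ← Over.w f, ← hl, Category.assoc, hx, Category.comp_id]
  refine Over.OverMorphism.ext ?_
  rw [Over.comp_left, ← e, hl]

/-- Borel's fixed point theorem. -/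
theorem exists_fixedPt [Nonempty X.left] (a : AlgGrp.Action G X) :
    ∃ x : 𝟙_ (Over (Spec (CommRingCat.of k))) ⟶ X, a.IsFixedPt x := by
  haveI : QuasiCompact G.hom := inferInstance
  obtain ⟨x, hxc⟩ := Groth.Agent.S14586.result k G X a
  haveI := GrothLib.Rigidity.irreducibleSpace_of_connected G
  haveI : IsReduced G.left := GrothLib.RedSmooth.isReduced_of_smooth G.hom
  haveI : IsIntegral G.left := isIntegral_of_irreducibleSpace_of_isReduced _
  haveI : JacobsonSpace G.left := LocallyOfFiniteType.jacobsonSpace G.hom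
  haveI : CompactSpace G.left := QuasiCompact.compactSpace_of_compactSpace G.hom
  have hxw : x.left ≫ X.hom = 𝟙 _ := Over.w x
  haveI : IsClosedImmersion (x.left ≫ X.hom) := by rw [hxw]; infer_instance
  haveI : IsClosedImmersion x.left := IsClosedImmersion.of_comp x.left X.hom
  let x₀ := x.left.base (IsLocalRing.closedPoint k)
  have hx₀r : Set.range x.left.base = {x₀} := by
    refine Set.Subset.antisymm ?_ (Set.singleton_subset_iff.2 ⟨_, rfl⟩)
    rintro _ ⟨y, rfl⟩
    exact congrArg x.left.base (Subsingleton.elim (α := ↥(Spec (CommRingCat.of k))) _ _)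
  suffices hpt : ∀ g : 𝟙_ (Over (Spec (CommRingCat.of k))) ⟶ G, g ≫ a.orbitMap x = x by
    refine ⟨x, fun T g => ?_⟩
    have hc : a.orbitMap x = toUnit G ≫ x := by
      refine eq_const_of_range _ x fun y => ?_
      have hsub : closedPoints G.left ⊆ (a.orbitMap x).left.base ⁻¹' Set.range x.left.base := fun p hp => by
        have e := congrArg (fun v : 𝟙_ (Over (Spec (CommRingCat.of k))) ⟶ X =>
          v.left.base (IsLocalRing.closedPoint k)) (hpt (GrothLib.Orbit27.ratPt p hp))
        simp only [GrothLib.Orbit27.comp_apply, GrothLib.Orbit27.ratPt_apply] at e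
        exact ⟨_, e.symm⟩
      have := closure_minimal hsub (x.left.isClosedEmbedding.isClosed_range.preimage (a.orbitMap x).left.continuous)
      rw [closure_closedPoints] at this
      exact this (Set.mem_univ y)
    rw [← GrothLib.FlatFactor.comp_orbitMap, hc, ← Category.assoc, toUnit_unique (g ≫ toUnit G) (toUnit T)]
  -- the stabiliser
  let Hs := pullback (a.orbitMap x) x
  let h : Hs ⟶ G := pullback.fst (a.orbitMap x) x
  have hHs : IsPullback h (toUnit Hs) (a.orbitMap x) x := by
    rw [toUnit_unique (toUnit Hs) (pullback.snd (a.orbitMap x) x)]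
    exact IsPullback.of_hasPullback _ _
  have hHs' : IsPullback h.left (toUnit Hs).left (a.orbitMap x).left x.left := hHs.map (Over.forget _)
  haveI : IsClosedImmersion h.left := MorphismProperty.of_isPullback hHs'.flip inferInstance
  have hstab : ∀ g : 𝟙_ (Over (Spec (CommRingCat.of k))) ⟶ G, g ≫ a.orbitMap x = lift g x ≫ a.act :=
    fun g => by rw [GrothLib.FlatFactor.comp_orbitMap, toUnit_unique (toUnit _) (𝟙 _), Category.id_comp]
  let S : Subgroup (𝟙_ (Over (Spec (CommRingCat.of k))) ⟶ G) :=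
    { carrier := {g | g ≫ a.orbitMap x = x}
      one_mem' := by
        show _ ≫ _ = x
        rw [hstab, GrothLib.DiagGrp.act_one]
      mul_mem' := fun {g₁ g₂} h₁ h₂ => by
        show _ ≫ _ = x
        rw [hstab, GrothLib.DiagGrp.act_mul, ← hstab g₂, h₂, ← hstab, h₁]
      inv_mem' := fun {g} hg => by
        show _ ≫ _ = x
        conv_lhs => rw [hstab, ← hg, hstab g]
        rw [← GrothLib.DiagGrp.act_mul, inv_mul_cancel, GrothLib.DiagGrp.act_one] }
  obtain ⟨H, _, i, _, hi, hHsm, hHr⟩ := Groth.Agent.S15608.result k G S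
  haveI := hi; haveI := hHsm
  haveI : IsReduced H.left := GrothLib.RedSmooth.isReduced_of_smooth H.hom
  haveI : IsAffine H.left := isAffine_of_isAffineHom i.left
  have hiF : ∀ y, (i ≫ a.orbitMap x).left y ∈ Set.range x.left.base := by
    intro y
    rw [Over.comp_left, Scheme.Hom.comp_apply]
    refine closure_minimal (t := (a.orbitMap x).left.base ⁻¹' Set.range x.left.base) ?_
      (x.left.isClosedEmbedding.isClosed_range.preimage (a.orbitMap x).left.continuous) (hHr.le ⟨y, rfl⟩)
    rintro _ ⟨s, hs, rfl⟩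
    have e := congrArg (fun v : 𝟙_ (Over (Spec (CommRingCat.of k))) ⟶ X =>
      v.left.base (IsLocalRing.closedPoint k)) (hs : s ≫ a.orbitMap x = x)
    simp only [GrothLib.Orbit27.comp_apply] at e
    exact ⟨_, e.symm⟩
  have hiw : i ≫ a.orbitMap x = toUnit H ≫ x := eq_const_of_range _ x hiF
  let j : H ⟶ Hs := hHs.lift i (toUnit H) hiw
  have hj : j ≫ h = i := hHs.lift_fst _ _ _
  haveI : IsClosedImmersion (j.left ≫ h.left) := by rw [← Over.comp_left, hj]; exact hi
  haveI : IsClosedImmersion j.left := IsClosedImmersion.of_comp j.left h.left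
  haveI : LocallyOfFiniteType Hs.hom := by rw [← Over.w h]; infer_instance
  haveI : JacobsonSpace Hs.left := LocallyOfFiniteType.jacobsonSpace Hs.hom
  haveI : Surjective j.left := by
    refine ⟨Set.range_eq_univ.1 (Set.univ_subset_iff.1 ?_)⟩
    rw [← closure_closedPoints (X := Hs.left)]
    refine closure_minimal (fun p hp => ?_) j.left.isClosedEmbedding.isClosed_range
    let pp := GrothLib.Orbit27.ratPt p hp
    have hS : pp ≫ h ∈ S := by
      show _ ≫ _ = x
      rw [Category.assoc, hHs.w, ← Category.assoc, toUnit_unique (pp ≫ toUnit Hs) (𝟙 _), Category.id_comp]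
    obtain ⟨y, hy⟩ := hHr.ge (subset_closure ⟨_, hS, rfl⟩)
    refine ⟨y, h.left.isClosedEmbedding.injective ?_⟩
    rw [← Scheme.Hom.comp_apply, ← Over.comp_left, hj, hy]
    simp only [GrothLib.Orbit27.comp_apply, pp, GrothLib.Orbit27.ratPt_apply]
  -- the orbit
  obtain ⟨O, z, π, _, _, hzr, hπ, _, _, _⟩ := GrothLib.Kleiman27.exists_orbit a x
  haveI : IsClosedImmersion z := IsClosedImmersion.of_isPreimmersion z (hzr ▸ hxc)
  haveI : UniversallyClosed (z ≫ X.hom) := inferInstance
  haveI : IsSeparated z := inferInstance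
  haveI : QuasiCompact π := by
    haveI : QuasiCompact (π ≫ z ≫ X.hom) := by rw [reassoc_of% hπ, Over.w]; infer_instance
    exact QuasiCompact.of_comp π (z ≫ X.hom)
  let Oo : Over (Spec (CommRingCat.of k)) := Over.mk (z ≫ X.hom)
  let z' : Oo ⟶ X := Over.homMk z rfl
  let p : G ⟶ Oo := Over.homMk π (by show π ≫ z ≫ X.hom = G.hom; rw [reassoc_of% hπ, Over.w])
  haveI : Mono z'.left := inferInstanceAs (Mono z)
  haveI : Mono z' := Over.mono_of_mono_left z'
  have hpz : p ≫ z' = a.orbitMap x := Over.OverMorphism.ext hπ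
  let m : G ⊗ Hs ⟶ G := (G ◁ h) ≫ μ[G]
  have sqs : IsPullback m.left (fst G Hs).left π π :=
    (GrothLib.FlatFactor.isPullback_cancel_mono z' hpz hpz
      (GrothLib.FlatFactor.orbit_isPullback a x h hHs)).map (Over.forget _)
  let jj : (G ⊗ H).left ⟶ (G ⊗ Hs).left := (G ◁ j).left
  haveI : IsClosedImmersion jj := GrothLib.Induce27.isClosedImmersion_whiskerLeft j G
  haveI : Surjective jj := by
    have e : G ◁ j = (β_ G H).hom ≫ (j ▷ G) ≫ (β_ Hs G).hom := by ext <;> simp
    haveI := GrothLib.GrpSchField.whiskerRight_property @Surjective j G inferInstance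
    haveI := GrothLib.GrpSchField.isIso_left (β_ G H).hom
    haveI := GrothLib.GrpSchField.isIso_left (β_ Hs G).hom
    show Surjective (G ◁ j).left
    rw [e, Over.comp_left, Over.comp_left]
    infer_instance
  haveI : QuasiCompact (G ⊗ Hs).hom := by
    haveI : QuasiCompact Hs.hom := by rw [← Over.w h]; infer_instance
    exact inferInstanceAs (QuasiCompact (pullback.fst G.hom Hs.hom ≫ G.hom))
  haveI : CompactSpace ↥(G ⊗ Hs).left := QuasiCompact.compactSpace_of_compactSpace (G ⊗ Hs).hom
  have hker : ∀ D, jj.appTop.hom D = 0 → IsNilpotent D := fun D hD => by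
    rw [Scheme.isNilpotent_iff_basicOpen_eq_bot, ← le_bot_iff]
    intro w hw
    obtain ⟨w', rfl⟩ := jj.surjective w
    have h1 : w' ∈ jj ⁻¹ᵁ (G ⊗ Hs).left.basicOpen D := hw
    rw [Scheme.preimage_basicOpen_top, show jj.appTop D = 0 from hD, Scheme.basicOpen_zero] at h1
    exact h1
  haveI : Mono h.left := inferInstance
  haveI : Mono h := Over.mono_of_mono_left h
  letI : GrpObj Hs := by
    refine (GrothLib.AntiAffine.exists_grpObj_of_factor h ?_ ?_ ?_).choose
    · exact ⟨hHs.lift η[G] (toUnit _) (by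
        rw [hstab, show η[G] = (1 : _ ⟶ G) by rw [Hom.one_def, toUnit_unique (toUnit _) (𝟙 _), Category.id_comp],
          GrothLib.DiagGrp.act_one, toUnit_unique (toUnit _) (𝟙 _), Category.id_comp]), hHs.lift_fst _ _ _⟩
    · refine ⟨hHs.lift ((fst Hs Hs ≫ h) * (snd Hs Hs ≫ h)) (toUnit _) ?_, hHs.lift_fst _ _ _⟩
      rw [GrothLib.FlatFactor.comp_orbitMap, GrothLib.DiagGrp.act_mul, ← GrothLib.FlatFactor.comp_orbitMap,
        Category.assoc (snd Hs Hs), hHs.w, ← Category.assoc (snd Hs Hs), toUnit_unique (snd Hs Hs ≫ toUnit Hs) (toUnit _),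
        ← GrothLib.FlatFactor.comp_orbitMap, Category.assoc, hHs.w, ← Category.assoc,
        toUnit_unique (fst Hs Hs ≫ toUnit Hs) (toUnit _)]
    · refine ⟨hHs.lift h⁻¹ (toUnit _) ?_, hHs.lift_fst _ _ _⟩
      have e := hHs.w
      rw [GrothLib.FlatFactor.comp_orbitMap] at e
      rw [GrothLib.FlatFactor.comp_orbitMap]
      conv_lhs => rw [← e]
      rw [← GrothLib.DiagGrp.act_mul, inv_mul_cancel, GrothLib.DiagGrp.act_one]
  have h0 : CharZero k → Function.Injective jj.appTop.hom := fun hk => by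
    haveI := hk
    haveI : Smooth Hs.hom := GrothLib.GrpSchField.smooth_of_charZero Hs
    haveI : Smooth (G ⊗ Hs).hom := by
      show Smooth (pullback.fst G.hom Hs.hom ≫ G.hom)
      infer_instance
    haveI : IsReduced (G ⊗ Hs).left := GrothLib.RedSmooth.isReduced_of_smooth (G ⊗ Hs).hom
    haveI : IsIso jj := isIso_of_isClosedImmersion_of_surjective jj
    haveI : IsIso jj.appTop := Functor.map_isIso Scheme.Γ jj.op
    exact ((ConcreteCategory.isIso_iff_bijective jj.appTop).1 inferInstance).1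
  let eR : k →+* Γ((G ⊗ Hs).left, ⊤) :=
    (G ⊗ Hs).hom.appTop.hom.comp (Scheme.ΓSpecIso (CommRingCat.of k)).inv.hom
  let eG : k →+* Γ(G.left, ⊤) := G.hom.appTop.hom.comp (Scheme.ΓSpecIso (CommRingCat.of k)).inv.hom
  letI : Algebra k Γ(G.left, ⊤) := eG.toAlgebra
  have hconst : ∀ f : Γ(G.left, ⊤), AGF.IsRTransInv i f → ∃ c : k, eG c = f := by
    intro f hf
    have hab : jj.appTop.hom (m.left.appTop.hom f) = jj.appTop.hom ((fst G Hs).left.appTop.hom f) := by
      have hf' : ((G ◁ i) ≫ μ[G]).left.appTop f = (fst G H).left.appTop f := hf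
      have e1 : jj ≫ m.left = ((G ◁ i) ≫ μ[G]).left := by
        simp only [jj, m, ← Over.comp_left]
        rw [← MonoidalCategory.whiskerLeft_comp_assoc, hj]
      have e2 : jj ≫ (fst G Hs).left = (fst G H).left := by
        simp only [jj, ← Over.comp_left]; rw [whiskerLeft_fst]
      rw [← CommRingCat.comp_apply, ← Scheme.Hom.comp_appTop, e1, ← CommRingCat.comp_apply,
        ← Scheme.Hom.comp_appTop, e2]
      exact hf'
    obtain ⟨n, hn, hpow⟩ := Groth.Agent.S12540.exists_pow_eq eR jj.appTop.hom hker h0 hab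
    obtain ⟨g, hg⟩ := (GrothLib.GrpdQuot.sections_of_flat π ⊤).2 (f ^ n)
      (fun {Z} g₁ g₂ e₁ e₂ hgg => by
        have hl1 := sqs.lift_fst g₁ g₂ hgg
        have hl2 := sqs.lift_snd g₁ g₂ hgg
        have h1 : g₁.appLE (π ⁻¹ᵁ ⊤) ⊤ e₁ = g₁.appTop := (Scheme.Hom.app_eq_appLE g₁).symm
        have h2 : g₂.appLE (π ⁻¹ᵁ ⊤) ⊤ e₂ = g₂.appTop := (Scheme.Hom.app_eq_appLE g₂).symm
        generalize sqs.lift g₁ g₂ hgg = l at hl1 hl2
        subst hl1 hl2
        rw [h1, h2]
        have e3 : m.left.appTop.hom (f ^ n) = (fst G Hs).left.appTop.hom (f ^ n) := by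
          rw [map_pow, map_pow]; exact hpow
        rw [Scheme.Hom.comp_appTop, Scheme.Hom.comp_appTop]
        exact congrArg l.appTop.hom e3)
    have hint : RingHom.IsIntegralElem eG (f ^ n) := by
      obtain ⟨P, hP, hP0⟩ := isIntegral_appTop_of_universallyClosed (z ≫ X.hom) g
      refine ⟨P.map (Scheme.ΓSpecIso (CommRingCat.of k)).hom.hom, hP.map _, ?_⟩
      rw [Polynomial.eval₂_map, show f ^ n = π.appTop.hom g from hg.symm]
      have e : eG.comp (Scheme.ΓSpecIso (CommRingCat.of k)).hom.hom = π.appTop.hom.comp (z ≫ X.hom).appTop.hom := by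
        have e0 : π ≫ z ≫ X.hom = G.hom := Over.w p
        refine RingHom.ext fun c => ?_
        have e1 : (Scheme.ΓSpecIso (CommRingCat.of k)).inv.hom ((Scheme.ΓSpecIso (CommRingCat.of k)).hom.hom c) = c :=
          congrArg (fun v => v.hom c) (Scheme.ΓSpecIso (CommRingCat.of k)).hom_inv_id
        have e2 : G.hom.appTop = (z ≫ X.hom).appTop ≫ π.appTop := by rw [← Scheme.Hom.comp_appTop, e0]
        exact (congrArg G.hom.appTop.hom e1).trans (congrArg (fun v => v.hom c) e2)
      rw [e, ← Polynomial.hom_eval₂, hP0, map_zero]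
    haveI : IsDomain Γ(G.left, ⊤) := inferInstance
    exact eq_algebraMap_of_isIntegral (IsIntegral.of_pow hn hint)
  intro g
  let e : VecGrp.pt k k ≅ 𝟙_ (Over (Spec (CommRingCat.of k))) :=
    Over.isoMk (Iso.refl _) (by rw [GrothLib.Induce27.pt_hom_id]; rfl)
  haveI : Group.IsSolvable (VecGrp.pt k k ⟶ G) :=
    solvable_of_solvable_injective
      (f := ({ toFun := fun v => e.inv ≫ v
               map_one' := MonObj.comp_one e.inv
               map_mul' := fun v w => MonObj.comp_mul e.inv v w } :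
                 (VecGrp.pt k k ⟶ G) →* (𝟙_ (Over (Spec (CommRingCat.of k))) ⟶ G)))
      fun v w hvw => (cancel_epi e.inv).1 hvw
  obtain ⟨h', hh'⟩ := GrothLib.Induce27.observable_of_connected_solvable i (e.hom ≫ g) (fun f hf => by
    obtain ⟨c, rfl⟩ := hconst f hf
    show ((G ◁ (e.hom ≫ g)) ≫ μ[G]).left.appTop (eG c) = (fst G (VecGrp.pt k k)).left.appTop (eG c)
    have key : ∀ v : (G ⊗ VecGrp.pt k k) ⟶ G, v.left.appTop (eG c) =
        (G ⊗ VecGrp.pt k k).hom.appTop ((Scheme.ΓSpecIso (CommRingCat.of k)).inv c) := fun v => by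
      conv_rhs => rw [← Over.w v, Scheme.Hom.comp_appTop]
      rfl
    rw [key, key])
  have e1 : e.inv ≫ h' ≫ i = g := by rw [hh', Iso.inv_hom_id_assoc]
  rw [← e1, Category.assoc, Category.assoc, hiw, ← Category.assoc, ← Category.assoc,
    toUnit_unique ((e.inv ≫ h') ≫ toUnit H) (𝟙 _), Category.id_comp]

end GrothLib.BorelFix27
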